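import Mathlib.Algebra.Homology.Embedding.ExtendHomotopy
import Mathlib.Algebra.Homology.Embedding.Restriction
import Mathlib.Algebra.Homology.Embedding.IsSupported
import Mathlib.CategoryTheory.Preadditive.AdditiveFunctor

/-! # Homotopy equivalences of strictly supported complexes are detected on the restriction -/

set_option autoImplicit false
set_option backward.isDefEq.respectTransparency false

noncomputable section

open CategoryTheory Limits HomologicalComplex

namespace Groth.Agent.StalkRes

variable {ι ι' : Type*} {c : ComplexShape ι} {c' : ComplexShape ι'} {C : Type*} [Category* C]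
  [Preadditive C] [HasZeroObject C]

section

variable (K : HomologicalComplex C c') (e : c.Embedding c') [e.IsRelIff] [K.IsStrictlySupported e]

open scoped Classical in
/-- The components of `extendRestrictionIso`. -/
def extResX (i' : ι') : ((K.restriction e).extend e).X i' ≅ K.X i' :=
  if h : ∃ i, e.f i = i' then
    (K.restriction e).extendXIso e h.choose_spec ≪≫ K.restrictionXIso e h.choose_spec
  else IsZero.iso (isZero_extend_X _ _ _ (fun i hi => h ⟨i, hi⟩))
    (K.isZero_X_of_isStrictlySupported e _ (fun i hi => h ⟨i, hi⟩))

lemma extResX_eq {i : ι} {i' : ι'} (hi : e.f i = i') :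
    extResX K e i' = (K.restriction e).extendXIso e hi ≪≫ K.restrictionXIso e hi := by
  have h : ∃ i, e.f i = i' := ⟨i, hi⟩
  rw [extResX, dif_pos h]
  obtain rfl : h.choose = i := e.injective_f (h.choose_spec.trans hi.symm)
  rfl

/-- A strictly supported complex is the extension of its restriction. -/
def extResIso : (K.restriction e).extend e ≅ K :=
  HomologicalComplex.Hom.isoOfComponents (extResX K e) fun i' j' _ => by
    by_cases hi : ∃ i, e.f i = i'
    · obtain ⟨i, hi⟩ := hi
      by_cases hj : ∃ j, e.f j = j'
      · obtain ⟨j, hj⟩ := hj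
        rw [extResX_eq K e hi, extResX_eq K e hj, extend_d_eq _ e hi hj, restriction_d_eq K e hi hj]
        simp
      · exact (K.isZero_X_of_isStrictlySupported e j' fun j h => hj ⟨j, h⟩).eq_of_tgt _ _
    · exact (isZero_extend_X _ e i' fun i h => hi ⟨i, h⟩).eq_of_src _ _

end

variable (e : c.Embedding c') [e.IsRelIff] {X Y : HomologicalComplex C c'}
  [X.IsStrictlySupported e] [Y.IsStrictlySupported e]

lemma extResIso_hom_naturality (f : X ⟶ Y) :
    extendMap (restrictionMap f e) e ≫ (extResIso Y e).hom = (extResIso X e).hom ≫ f := by
  ext i'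
  by_cases hi : ∃ i, e.f i = i'
  · obtain ⟨i, hi⟩ := hi
    simp only [HomologicalComplex.comp_f, extResIso, HomologicalComplex.Hom.isoOfComponents_hom_f,
      extResX_eq _ e hi, extendMap_f _ e hi, restrictionMap_f' f e hi]
    simp
  · exact (isZero_extend_X _ e i' fun i h => hi ⟨i, h⟩).eq_of_src _ _

/-- A morphism of strictly supported complexes whose restriction is a homotopy equivalence is one. -/
theorem exists_homotopyEquiv (f : X ⟶ Y)
    (H : HomotopyEquiv (X.restriction e) (Y.restriction e)) (hH : H.hom = restrictionMap f e) :
    ∃ E : HomotopyEquiv X Y, E.hom = f := by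
  let H' : HomotopyEquiv ((X.restriction e).extend e) ((Y.restriction e).extend e) :=
    { hom := extendMap H.hom e
      inv := extendMap H.inv e
      homotopyHomInvId := ((Homotopy.ofEq (extendMap_comp _ _ e).symm).trans
        (H.homotopyHomInvId.extend e)).trans (Homotopy.ofEq (extendMap_id _ e))
      homotopyInvHomId := ((Homotopy.ofEq (extendMap_comp _ _ e).symm).trans
        (H.homotopyInvHomId.extend e)).trans (Homotopy.ofEq (extendMap_id _ e)) }
  refine ⟨(HomotopyEquiv.ofIso (extResIso X e).symm).trans (H'.trans (HomotopyEquiv.ofIso (extResIso Y e))), ?_⟩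
  show (extResIso X e).inv ≫ extendMap H.hom e ≫ (extResIso Y e).hom = f
  rw [hH, extResIso_hom_naturality, Iso.inv_hom_id_assoc]

end Groth.Agent.StalkRes
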