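import Groth.Agent.StalkRes.Total
import Groth.Agent.StalkRes.Extend
import Groth.Agent.Godement.Basic
import Groth.Agent.LocCohZLib.Sheaf
import Groth.Prelude.Def_CohCx
import Mathlib.Topology.Sheaves.Abelian

/-! # The Godement step on abelian sheaves, split on stalks -/

set_option autoImplicit false
set_option backward.isDefEq.respectTransparency false

noncomputable section

universe u

open CategoryTheory CategoryTheory.Limits TopologicalSpace Opposite

namespace Groth.Agent.StalkRes

variable {X : TopCat.{u}}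

/-- The stalk functor on abelian sheaves. -/
abbrev St (x : X) : CohTop.Ab X ⥤ AddCommGrpCat.{u} :=
  TopCat.Sheaf.forget AddCommGrpCat.{u} X ⋙ TopCat.Presheaf.stalkFunctor AddCommGrpCat.{u} x

instance (x : X) : (St x).Additive where
  map_add {F G f g} := (TopCat.Presheaf.stalkFunctor AddCommGrpCat.{u} x).map_add (f := f.hom) (g := g.hom)

instance (x : X) : PreservesFiniteColimits (St x) :=
  (inferInstance : PreservesFiniteColimits
    (TopCat.Sheaf.forget AddCommGrpCat.{u} X ⋙ TopCat.Presheaf.stalkFunctor AddCommGrpCat.{u} x))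

instance (x : X) : PreservesFiniteLimits (St x) :=
  (inferInstance : PreservesFiniteLimits
    (TopCat.Sheaf.forget AddCommGrpCat.{u} X ⋙ TopCat.Presheaf.stalkFunctor AddCommGrpCat.{u} x))

/-- The map of sheaves of families of germs. -/
def godMap {F F' : CohTop.Ab X} (m : F ⟶ F') : Godement.G0 F ⟶ Godement.G0 F' :=
  ⟨{ app := fun V => AddCommGrpCat.ofHom
      { toFun := fun s x => (St x.1).map m (s x)
        map_zero' := funext fun x => map_zero ((St x.1).map m).hom
        map_add' := fun s t => funext fun x => map_add ((St x.1).map m).hom (s x) (t x) }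
     naturality := fun V W f => rfl }⟩

lemma godMap_app {F F' : CohTop.Ab X} (m : F ⟶ F') (V : Opens X)
    (s : (Godement.G0 F).obj.obj (op V)) (x : V) :
    (godMap m).hom.app (op V) s x = (St x.1).map m (s x) := rfl

lemma godMap_ext {F F' : CohTop.Ab X} {a b : F ⟶ Godement.G0 F'}
    (h : ∀ (V : Opens X) (s : F.obj.obj (op V)) (x : V), a.hom.app (op V) s x = b.hom.app (op V) s x) :
    a = b :=
  CategoryTheory.Sheaf.hom_ext (NatTrans.ext (funext fun V => AddCommGrpCat.ext fun s => funext (h V.unop s)))

variable (X) in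
/-- The functor of families of germs. -/
def godF : CohTop.Ab X ⥤ CohTop.Ab X where
  obj := Godement.G0
  map := godMap
  map_id F := godMap_ext fun V s x => by
    rw [godMap_app, CategoryTheory.Functor.map_id]; rfl
  map_comp m m' := godMap_ext fun V s x => by
    rw [godMap_app, CategoryTheory.Functor.map_comp]; rfl

instance : (godF X).Additive where
  map_add {F F' m m'} := godMap_ext fun V s x => by
    show (godMap (m + m')).hom.app (op V) s x = (St x.1).map m (s x) + (St x.1).map m' (s x)
    rw [godMap_app, Functor.map_add]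
    rfl

variable (X) in
/-- The unit. -/
def godη : 𝟭 (CohTop.Ab X) ⟶ godF X where
  app F := Godement.η F
  naturality F F' m := godMap_ext fun V s x =>
    (TopCat.Presheaf.stalkFunctor_map_germ_apply V x.1 x.2 m.hom s).symm

variable (X) in
/-- The quotient functor. -/
def godQ : CohTop.Ab X ⥤ CohTop.Ab X where
  obj F := cokernel ((godη X).app F)
  map m := cokernel.map _ _ m ((godF X).map m) ((godη X).naturality m).symm
  map_id F := coequalizer.hom_ext (by simp)
  map_comp m m' := coequalizer.hom_ext (by simp)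

instance : (godQ X).Additive where
  map_add {F F' m m'} := coequalizer.hom_ext (by simp [godQ, Preadditive.add_comp, Preadditive.comp_add])

variable (X) in
/-- The Godement step. -/
def step : Step (CohTop.Ab X) where
  G := godF X
  Q := godQ X
  η := godη X
  π := { app := fun F => cokernel.π _
         naturality := fun F F' m => (cokernel.π_desc _ _ _).symm }
  η_π F := cokernel.condition _

/-- Evaluation of a family of germs at `x`. -/
def evCocone (x : X) (F : CohTop.Ab X) :
    Cocone (((Functor.whiskeringLeft _ _ AddCommGrpCat.{u}).obj (OpenNhds.inclusion x).op).obj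
      (Godement.G0 F).obj) where
  pt := (St x).obj F
  ι := { app := fun U => AddCommGrpCat.ofHom
          { toFun := fun s => s ⟨x, U.unop.2⟩
            map_zero' := rfl
            map_add' := fun _ _ => rfl }
         naturality := fun U V f => rfl }

/-- The retraction on stalks. -/
def ρ (x : X) (F : CohTop.Ab X) : (St x).obj ((godF X).obj F) ⟶ (St x).obj F :=
  colimit.desc _ (evCocone x F)

lemma ρ_germ (x : X) (F : CohTop.Ab X) (U : Opens X) (hx : x ∈ U) (s : (Godement.G0 F).obj.obj (op U)) :
    ρ x F (TopCat.Presheaf.germ (Godement.G0 F).obj U x hx s) = s ⟨x, hx⟩ :=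
  ConcreteCategory.congr_hom (colimit.ι_desc (evCocone x F) (op ⟨U, hx⟩)) s

lemma godρ_nat (x : X) {F F' : CohTop.Ab X} (m : F ⟶ F') :
    (St x).map ((godF X).map m) ≫ ρ x F' = ρ x F ≫ (St x).map m := by
  refine TopCat.Presheaf.stalk_hom_ext _ fun U hx => ?_
  ext s
  show ρ x F' ((TopCat.Presheaf.stalkFunctor AddCommGrpCat.{u} x).map (godMap m).hom
      (TopCat.Presheaf.germ (Godement.G0 F).obj U x hx s)) =
    (St x).map m (ρ x F (TopCat.Presheaf.germ (Godement.G0 F).obj U x hx s))
  rw [TopCat.Presheaf.stalkFunctor_map_germ_apply, ρ_germ]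
  exact (godMap_app m U s ⟨x, hx⟩).trans (congrArg _ (ρ_germ x F U hx s).symm)

lemma η_ρ (x : X) (F : CohTop.Ab X) : (St x).map ((godη X).app F) ≫ ρ x F = 𝟙 _ := by
  refine TopCat.Presheaf.stalk_hom_ext _ fun U hx => ?_
  ext s
  show ρ x F ((TopCat.Presheaf.stalkFunctor AddCommGrpCat.{u} x).map (Godement.η F).hom
      (TopCat.Presheaf.germ F.obj U x hx s)) = TopCat.Presheaf.germ F.obj U x hx s
  rw [TopCat.Presheaf.stalkFunctor_map_germ_apply, ρ_germ]
  exact Godement.η_app F U s ⟨x, hx⟩

/-- The stalk short complex. -/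
abbrev stSC (x : X) (F : CohTop.Ab X) : ShortComplex AddCommGrpCat.{u} :=
  ShortComplex.mk ((St x).map ((godη X).app F)) ((St x).map ((step X).π.app F))
    (by rw [← Functor.map_comp]; exact (congrArg _ ((step X).η_π F)).trans (Functor.map_zero _ _ _))

/-- The splitting. -/
def splitting (x : X) (F : CohTop.Ab X) : (stSC x F).Splitting :=
  ShortComplex.Splitting.ofExactOfRetraction _
    ((TopCat.Sheaf.exact_iff_stalkFunctor_map_exact
      (ShortComplex.mk ((godη X).app F) ((step X).π.app F) ((step X).η_π F))).1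
      (ShortComplex.exact_cokernel _) x)
    (ρ x F) (η_ρ x F)
    (by
      haveI : Epi ((step X).π.app F) := inferInstanceAs (Epi (cokernel.π _))
      exact inferInstanceAs (Epi ((St x).map ((step X).π.app F))))

lemma π_s (x : X) (F : CohTop.Ab X) :
    (St x).map ((step X).π.app F) ≫ (splitting x F).s =
      𝟙 _ - ρ x F ≫ (St x).map ((godη X).app F) :=
  eq_sub_of_add_eq' (splitting x F).id

/-- The step is split on stalks. -/
def split (x : X) : Split (step X) (St x) where
  ρ := ρ x
  j F := (splitting x F).s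
  ρ_nat m := godρ_nat x m
  j_nat {F F'} m := by
    haveI : Epi ((step X).π.app F) := inferInstanceAs (Epi (cokernel.π _))
    rw [← cancel_epi ((St x).map ((step X).π.app F)), ← Category.assoc, ← Functor.map_comp,
      ← (step X).π.naturality m, Functor.map_comp, Category.assoc, π_s, ← Category.assoc, π_s]
    show (St x).map ((godF X).map m) ≫
        (𝟙 ((St x).obj ((godF X).obj F')) - ρ x F' ≫ (St x).map ((godη X).app F')) =
      (𝟙 ((St x).obj ((godF X).obj F)) - ρ x F ≫ (St x).map ((godη X).app F)) ≫
        (St x).map ((godF X).map m)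
    have e1 : (St x).map ((godη X).app F) ≫ (St x).map ((godF X).map m) =
        (St x).map m ≫ (St x).map ((godη X).app F') := by
      rw [← Functor.map_comp, ← Functor.map_comp]
      exact congrArg _ ((godη X).naturality m).symm
    have e2 := godρ_nat x m
    rw [Preadditive.comp_sub, Preadditive.sub_comp, Category.comp_id, Category.id_comp]
    refine congrArg (fun k => (St x).map ((godF X).map m) - k) ?_
    exact (Category.assoc _ _ _).symm.trans ((congrArg (fun k => k ≫ (St x).map ((godη X).app F')) e2).trans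
      ((Category.assoc _ _ _).trans ((congrArg (fun k => ρ x F ≫ k) e1.symm).trans (Category.assoc _ _ _).symm)))
  η_ρ := η_ρ x
  j_π F := (splitting x F).s_g
  π_j := π_s x

lemma isFlasque_biprod (A B : CohTop.Ab X) [TopCat.Sheaf.IsFlasque A] [TopCat.Sheaf.IsFlasque B] :
    TopCat.Sheaf.IsFlasque (A ⊞ B) := by
  constructor
  intro U V i
  refine (AddCommGrpCat.epi_iff_surjective _).2 fun t => ?_
  have ha : Function.Surjective (A.obj.map i) := (AddCommGrpCat.epi_iff_surjective _).1 inferInstance
  have hb : Function.Surjective (B.obj.map i) := (AddCommGrpCat.epi_iff_surjective _).1 inferInstance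
  obtain ⟨a, ha⟩ := ha ((biprod.fst : A ⊞ B ⟶ A).hom.app V t)
  obtain ⟨b, hb⟩ := hb ((biprod.snd : A ⊞ B ⟶ B).hom.app V t)
  refine ⟨(biprod.inl : A ⟶ A ⊞ B).hom.app U a + (biprod.inr : B ⟶ A ⊞ B).hom.app U b, ?_⟩
  have e := congrArg (fun k : A ⊞ B ⟶ A ⊞ B => k.hom.app V t) (biprod.total : biprod.fst ≫ biprod.inl + biprod.snd ≫ biprod.inr = 𝟙 (A ⊞ B))
  refine Eq.trans ?_ e
  rw [map_add, ← NatTrans.naturality_apply, ← NatTrans.naturality_apply]
  erw [ha, hb]
  rfl

lemma isFlasque_T : ∀ (k : ℕ) (K : CochainComplex (CohTop.Ab X) ℕ), TopCat.Sheaf.IsFlasque (T (step X) k K)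
  | 0, K => Godement.isFlasque_G0 (K.X 0)
  | k + 1, K => by
    haveI := isFlasque_T k ((step X).QC K)
    haveI := Godement.isFlasque_G0 (K.X (k + 1))
    exact isFlasque_biprod (Godement.G0 (K.X (k + 1))) _

lemma quasiIso_of_stalk {K L : CochainComplex (CohTop.Ab X) ℤ} (φ : K ⟶ L)
    (h : ∀ x : X, QuasiIso (((St x).mapHomologicalComplex (ComplexShape.up ℤ)).map φ)) : QuasiIso φ := by
  refine ⟨fun n => ?_⟩
  rw [quasiIsoAt_iff, ShortComplex.quasiIso_iff, TopCat.Presheaf.isIso_iff_stalkFunctor_map_iso]
  intro x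
  have h2 : ShortComplex.QuasiIso ((St x).mapShortComplex.map
      ((HomologicalComplex.shortComplexFunctor (CohTop.Ab X) (ComplexShape.up ℤ) n).map φ)) := by
    have := (h x).quasiIsoAt n
    rw [quasiIsoAt_iff] at this
    exact this
  rw [ShortComplex.quasiIso_iff] at h2
  have e := ShortComplex.mapHomologyIso_hom_naturality
    ((HomologicalComplex.shortComplexFunctor (CohTop.Ab X) (ComplexShape.up ℤ) n).map φ) (St x)
  exact IsIso.of_isIso_fac_left e.symm

lemma isFlasque_of_isZero' {A : CohTop.Ab X} (h : IsZero A) : TopCat.Sheaf.IsFlasque A := by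
  refine ⟨fun {U V} i => (AddCommGrpCat.epi_iff_surjective _).2 fun t => ⟨0, ?_⟩⟩
  have h' := AddCommGrpCat.subsingleton_of_isZero
    (((sheafToPresheaf _ AddCommGrpCat.{u}).map_isZero h).obj V)
  exact @Subsingleton.elim _ h' _ _

theorem exists_flasque_resolution (F : CochainComplex (CohTop.Ab X) ℤ) (a : ℤ) (hF : F.IsStrictlyGE a) :
    ∃ (G : CochainComplex (CohTop.Ab X) ℤ) (φ : F ⟶ G), G.IsStrictlyGE a ∧ QuasiIso φ ∧
      (∀ n : ℤ, TopCat.Sheaf.IsFlasque (G.X n)) ∧
      ∀ x : X, ∃ E : HomotopyEquiv (((St x).mapHomologicalComplex (ComplexShape.up ℤ)).obj F)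
          (((St x).mapHomologicalComplex (ComplexShape.up ℤ)).obj G),
        E.hom = ((St x).mapHomologicalComplex (ComplexShape.up ℤ)).map φ := by
  let e := ComplexShape.embeddingUpIntGE a
  haveI : F.IsStrictlySupported e := hF
  let K := F.restriction e
  let L := tot (step X) K
  let φ : F ⟶ L.extend e := (extResIso F e).inv ≫ HomologicalComplex.extendMap (toTot (step X) K) e
  have hφ : ∀ i : ℕ, φ.f (e.f i) =
      (toTot (step X) K).f i ≫ (L.extendXIso e (rfl : e.f i = e.f i)).inv := fun i => by
    show (extResX F e (e.f i)).inv ≫ _ = _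
    rw [extResX_eq F e rfl, HomologicalComplex.extendMap_f _ e rfl]
    simp [HomologicalComplex.restrictionXIso, K, L]
  have hE : ∀ x : X, ∃ E : HomotopyEquiv (((St x).mapHomologicalComplex (ComplexShape.up ℤ)).obj F)
          (((St x).mapHomologicalComplex (ComplexShape.up ℤ)).obj (L.extend e)),
        E.hom = ((St x).mapHomologicalComplex (ComplexShape.up ℤ)).map φ := fun x => by
    let a2 : ((St x).mapHomologicalComplex (ComplexShape.up ℕ)).obj L ≅
        (((St x).mapHomologicalComplex (ComplexShape.up ℤ)).obj (L.extend e)).restriction e :=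
      HomologicalComplex.Hom.isoOfComponents (fun i => (St x).mapIso (L.extendXIso e rfl).symm)
        fun i j _ => by
          show (St x).map (L.extendXIso e rfl).inv ≫ (St x).map ((L.extend e).d (e.f i) (e.f j)) =
            (St x).map (L.d i j) ≫ (St x).map (L.extendXIso e rfl).inv
          rw [← Functor.map_comp, ← Functor.map_comp, L.extend_d_eq e rfl rfl, Iso.inv_hom_id_assoc]
    refine exists_homotopyEquiv e _
      ((totEquiv (split x) K).trans (HomotopyEquiv.ofIso a2)) ?_
    refine HomologicalComplex.hom_ext _ _ fun i => ?_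
    show (St x).map ((toTot (step X) K).f i) ≫ (St x).map (L.extendXIso e rfl).inv = (St x).map (φ.f (e.f i))
    rw [hφ i, Functor.map_comp]
  refine ⟨L.extend e, φ, inferInstanceAs ((L.extend e).IsStrictlySupported e),
    quasiIso_of_stalk φ fun x => ?_, fun n => ?_, hE⟩
  · obtain ⟨E, hE⟩ := hE x
    rw [← hE]
    infer_instance
  · by_cases hn : ∃ i, e.f i = n
    · obtain ⟨i, hi⟩ := hn
      haveI : TopCat.Sheaf.IsFlasque (L.X i) := isFlasque_T i K
      exact Groth.Agent.LocCohZLib.isFlasque_of_iso (L.extendXIso e hi).symm this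
    · exact isFlasque_of_isZero' (L.isZero_extend_X e n fun i h => hn ⟨i, h⟩)

end Groth.Agent.StalkRes
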