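import Mathlib.Algebra.Homology.Embedding.ExtendHomotopy
import Mathlib.CategoryTheory.Preadditive.AdditiveFunctor

/-!
# Totalization of an iterated natural resolution step

Given a natural step `K ⟶ G K ⟶ Q K`, an iterated total complex together with a contraction
after applying a functor in which the step is naturally split.
-/

set_option autoImplicit false
set_option backward.isDefEq.respectTransparency false
set_option backward.isDefEq.respectTransparency.types false

noncomputable section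

universe v v' u u'

open CategoryTheory Limits

namespace Groth.Agent.StalkRes

variable {A : Type u} [Category.{v} A] [Preadditive A] [HasBinaryBiproducts A]

variable (A) in
/-- A natural step `𝟭 ⟶ G ⟶ Q`. -/
structure Step where
  G : A ⥤ A
  Q : A ⥤ A
  [addG : G.Additive]
  [addQ : Q.Additive]
  η : 𝟭 A ⟶ G
  π : G ⟶ Q
  η_π : ∀ F : A, η.app F ≫ π.app F = 0

attribute [instance] Step.addG Step.addQ

variable (s : Step A)

/-- The quotient complex. -/
abbrev Step.QC (K : CochainComplex A ℕ) : CochainComplex A ℕ :=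
  (s.Q.mapHomologicalComplex _).obj K

/-- The terms. -/
@[reducible] def T : ℕ → CochainComplex A ℕ → A
  | 0, K => s.G.obj (K.X 0)
  | k + 1, K => s.G.obj (K.X (k + 1)) ⊞ T k (s.QC K)

/-- The augmentation. -/
def φf : ∀ (k : ℕ) (K : CochainComplex A ℕ), K.X k ⟶ T s k K
  | 0, K => s.η.app (K.X 0)
  | k + 1, K => s.η.app (K.X (k + 1)) ≫ biprod.inl

/-- The differential. -/
def D : ∀ (k : ℕ) (K : CochainComplex A ℕ), T s k K ⟶ T s (k + 1) K
  | 0, K => biprod.lift (s.G.map (K.d 0 1)) (s.π.app (K.X 0) ≫ φf s 0 (s.QC K))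
  | k + 1, K => biprod.desc
      (biprod.lift (s.G.map (K.d (k + 1) (k + 1 + 1))) (s.π.app (K.X (k + 1)) ≫ φf s (k + 1) (s.QC K)))
      (-D k (s.QC K) ≫ biprod.inr)

lemma D_zero (K : CochainComplex A ℕ) : D s 0 K =
    biprod.lift (s.G.map (K.d 0 1)) (s.π.app (K.X 0) ≫ φf s 0 (s.QC K)) := rfl

lemma D_succ (k : ℕ) (K : CochainComplex A ℕ) : D s (k + 1) K = biprod.desc
      (biprod.lift (s.G.map (K.d (k + 1) (k + 1 + 1))) (s.π.app (K.X (k + 1)) ≫ φf s (k + 1) (s.QC K)))
      (-D s k (s.QC K) ≫ biprod.inr) := rfl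

lemma η_nat {F F' : A} (m : F ⟶ F') : s.η.app F ≫ s.G.map m = m ≫ s.η.app F' :=
  (s.η.naturality m).symm

lemma φf_D : ∀ (k : ℕ) (K : CochainComplex A ℕ),
    φf s k K ≫ D s k K = K.d k (k + 1) ≫ φf s (k + 1) K
  | 0, K => by
    show s.η.app (K.X 0) ≫ biprod.lift _ _ = K.d 0 1 ≫ s.η.app (K.X 1) ≫ biprod.inl
    apply biprod.hom_ext
    · simp only [Category.assoc, biprod.lift_fst, biprod.inl_fst, Category.comp_id]
      exact η_nat s _
    · simp only [Category.assoc, biprod.lift_snd, biprod.inl_snd, comp_zero]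
      rw [← Category.assoc, s.η_π, zero_comp]
  | k + 1, K => by
    show (s.η.app (K.X (k + 1)) ≫ biprod.inl) ≫ D s (k + 1) K =
      K.d (k + 1) (k + 1 + 1) ≫ s.η.app (K.X (k + 1 + 1)) ≫ biprod.inl
    rw [D_succ, Category.assoc, biprod.inl_desc]
    apply biprod.hom_ext
    · simp only [Category.assoc, biprod.lift_fst, biprod.inl_fst, Category.comp_id]
      exact η_nat s _
    · simp only [Category.assoc, biprod.lift_snd, biprod.inl_snd, comp_zero]
      rw [← Category.assoc, s.η_π, zero_comp]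

lemma π_nat {F F' : A} (m : F ⟶ F') : s.G.map m ≫ s.π.app F' = s.π.app F ≫ s.Q.map m :=
  s.π.naturality m

lemma lift_D (k : ℕ) (K : CochainComplex A ℕ) :
    biprod.lift (s.G.map (K.d k (k + 1))) (s.π.app (K.X k) ≫ φf s k (s.QC K)) ≫ D s (k + 1) K = 0 := by
  rw [D_succ, biprod.lift_desc]
  apply biprod.hom_ext
  · simp only [Preadditive.add_comp, Category.assoc, biprod.lift_fst, Preadditive.neg_comp,
      Preadditive.comp_neg, biprod.inr_fst, comp_zero, neg_zero, add_zero, zero_comp]
    rw [← Functor.map_comp, K.d_comp_d, Functor.map_zero]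
  · simp only [Preadditive.add_comp, Category.assoc, biprod.lift_snd, Preadditive.neg_comp,
      Preadditive.comp_neg, biprod.inr_snd, Category.comp_id, zero_comp]
    rw [φf_D s k (s.QC K), ← Category.assoc (s.G.map _), π_nat, Category.assoc]
    exact add_neg_cancel _

lemma D_D : ∀ (k : ℕ) (K : CochainComplex A ℕ), D s k K ≫ D s (k + 1) K = 0
  | 0, K => lift_D s 0 K
  | k + 1, K => by
    conv_lhs => arg 1; rw [D_succ]
    apply biprod.hom_ext'
    · rw [← Category.assoc, biprod.inl_desc, comp_zero]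
      exact lift_D s (k + 1) K
    · rw [← Category.assoc, biprod.inr_desc, comp_zero, Preadditive.neg_comp, Category.assoc,
        D_succ s (k + 1), biprod.inr_desc, Preadditive.comp_neg, ← Category.assoc, D_D k (s.QC K),
        zero_comp, neg_zero, neg_zero]

/-- The total complex. -/
def tot (K : CochainComplex A ℕ) : CochainComplex A ℕ :=
  CochainComplex.of (fun k => T s k K) (fun k => D s k K) (fun k => D_D s k K)

lemma tot_d (K : CochainComplex A ℕ) (k : ℕ) : (tot s K).d k (k + 1) = D s k K :=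
  CochainComplex.of_d (fun k => T s k K) (fun k => D s k K) k

/-- The augmentation to the total complex. -/
def toTot (K : CochainComplex A ℕ) : K ⟶ tot s K where
  f k := φf s k K
  comm' i j (h : i + 1 = j) := by
    subst h
    rw [tot_d]
    exact φf_D s i K

section Split

variable {B : Type u'} [Category.{v'} B] [Preadditive B]

/-- Natural splittings of the step after applying `S`. -/
structure Split (S : A ⥤ B) where
  ρ : ∀ F : A, S.obj (s.G.obj F) ⟶ S.obj F
  j : ∀ F : A, S.obj (s.Q.obj F) ⟶ S.obj (s.G.obj F)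
  ρ_nat : ∀ {F F' : A} (m : F ⟶ F'), S.map (s.G.map m) ≫ ρ F' = ρ F ≫ S.map m
  j_nat : ∀ {F F' : A} (m : F ⟶ F'), S.map (s.Q.map m) ≫ j F' = j F ≫ S.map (s.G.map m)
  η_ρ : ∀ F : A, S.map (s.η.app F) ≫ ρ F = 𝟙 (S.obj F)
  j_π : ∀ F : A, j F ≫ S.map (s.π.app F) = 𝟙 (S.obj (s.Q.obj F))
  π_j : ∀ F : A, S.map (s.π.app F) ≫ j F = 𝟙 (S.obj (s.G.obj F)) - ρ F ≫ S.map (s.η.app F)

variable {s} {S : A ⥤ B} [S.Additive] (sp : Split s S)

/-- The retraction. -/
def ψf : ∀ (k : ℕ) (K : CochainComplex A ℕ), S.obj (T s k K) ⟶ S.obj (K.X k)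
  | 0, K => sp.ρ (K.X 0)
  | k + 1, K => S.map biprod.fst ≫ sp.ρ (K.X (k + 1))

/-- The homotopy. -/
def hf : ∀ (k : ℕ) (K : CochainComplex A ℕ), S.obj (T s (k + 1) K) ⟶ S.obj (T s k K)
  | 0, K => S.map biprod.snd ≫ ψf sp 0 (s.QC K) ≫ sp.j (K.X 0)
  | k + 1, K => S.map biprod.snd ≫
      (ψf sp (k + 1) (s.QC K) ≫ sp.j (K.X (k + 1)) ≫ S.map biprod.inl -
        hf k (s.QC K) ≫ S.map biprod.inr)

lemma map_hom_ext' {X Y : A} {Z : B} (f g : S.obj (X ⊞ Y) ⟶ Z)
    (h1 : S.map biprod.inl ≫ f = S.map biprod.inl ≫ g)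
    (h2 : S.map biprod.inr ≫ f = S.map biprod.inr ≫ g) : f = g := by
  have e : S.map (biprod.fst : X ⊞ Y ⟶ X) ≫ S.map biprod.inl + S.map biprod.snd ≫ S.map biprod.inr =
      𝟙 _ := by
    rw [← S.map_comp, ← S.map_comp, ← S.map_add, biprod.total, S.map_id]
  rw [← Category.id_comp f, ← Category.id_comp g, ← e, Preadditive.add_comp, Preadditive.add_comp,
    Category.assoc, Category.assoc, h1, h2, Category.assoc, Category.assoc]

lemma φf_ψf : ∀ (k : ℕ) (K : CochainComplex A ℕ), S.map (φf s k K) ≫ ψf sp k K = 𝟙 _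
  | 0, K => sp.η_ρ _
  | k + 1, K => by
    show S.map (s.η.app _ ≫ biprod.inl) ≫ S.map biprod.fst ≫ sp.ρ _ = _
    rw [← Category.assoc, ← S.map_comp, Category.assoc, biprod.inl_fst, Category.comp_id]
    exact sp.η_ρ _

lemma ρ_nat {F F' : A} (m : F ⟶ F') :
    S.map (s.G.map m) ≫ sp.ρ F' = sp.ρ F ≫ S.map m :=
  sp.ρ_nat m

lemma j_nat {F F' : A} (m : F ⟶ F') :
    S.map (s.Q.map m) ≫ sp.j F' = sp.j F ≫ S.map (s.G.map m) :=
  sp.j_nat m

lemma ψf_D : ∀ (k : ℕ) (K : CochainComplex A ℕ),
    ψf sp k K ≫ S.map (K.d k (k + 1)) = S.map (D s k K) ≫ ψf sp (k + 1) K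
  | 0, K => by
    show _ = S.map (D s 0 K) ≫ S.map biprod.fst ≫ sp.ρ _
    rw [← Category.assoc, ← S.map_comp, D_zero, biprod.lift_fst]
    exact (ρ_nat sp _).symm
  | k + 1, K => by
    show (S.map biprod.fst ≫ sp.ρ _) ≫ _ = S.map (D s (k + 1) K) ≫ S.map biprod.fst ≫ sp.ρ _
    rw [← Category.assoc (S.map (D s (k + 1) K)), ← S.map_comp, D_succ]
    apply map_hom_ext'
    · rw [← Category.assoc, ← Category.assoc, ← S.map_comp, biprod.inl_fst, S.map_id, Category.id_comp,
        ← Category.assoc, ← S.map_comp, ← Category.assoc, biprod.inl_desc, biprod.lift_fst]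
      exact (ρ_nat sp _).symm
    · rw [← Category.assoc, ← Category.assoc, ← S.map_comp, biprod.inr_fst, S.map_zero, zero_comp,
        zero_comp, ← Category.assoc, ← S.map_comp, ← Category.assoc, biprod.inr_desc, Preadditive.neg_comp, Category.assoc,
        biprod.inr_fst, comp_zero, neg_zero, S.map_zero, zero_comp]

lemma φf_hf : ∀ (k : ℕ) (K : CochainComplex A ℕ), S.map (φf s (k + 1) K) ≫ hf sp k K = 0
  | 0, K => by
    show S.map (s.η.app _ ≫ biprod.inl) ≫ S.map biprod.snd ≫ _ = _
    rw [← Category.assoc, ← S.map_comp, Category.assoc, biprod.inl_snd, comp_zero, S.map_zero, zero_comp]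
  | k + 1, K => by
    show S.map (s.η.app _ ≫ biprod.inl) ≫ S.map biprod.snd ≫ _ = _
    rw [← Category.assoc, ← S.map_comp, Category.assoc, biprod.inl_snd, comp_zero, S.map_zero, zero_comp]

lemma homotopy_zero (K : CochainComplex A ℕ) :
    𝟙 (S.obj (T s 0 K)) = S.map (D s 0 K) ≫ hf sp 0 K + ψf sp 0 K ≫ S.map (φf s 0 K) := by
  have e : S.map (D s 0 K) ≫ hf sp 0 K =
      S.map (s.π.app (K.X 0)) ≫ sp.j (K.X 0) := by
    show S.map (D s 0 K) ≫ S.map biprod.snd ≫ _ ≫ _ = _
    rw [← Category.assoc, ← S.map_comp, D_zero, biprod.lift_snd, S.map_comp, Category.assoc,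
      ← Category.assoc (S.map (φf s 0 _)), φf_ψf, Category.id_comp]
  rw [e, sp.π_j]
  exact (sub_add_cancel _ _).symm

lemma inr_D (k : ℕ) (K : CochainComplex A ℕ) :
    biprod.inr ≫ D s (k + 1) K = -D s k (s.QC K) ≫ biprod.inr := by
  rw [D_succ, biprod.inr_desc]

lemma inl_hf_succ (k : ℕ) (K : CochainComplex A ℕ) :
    S.map biprod.inl ≫ hf sp k K = 0 := by
  cases k <;>
  · show S.map biprod.inl ≫ S.map biprod.snd ≫ _ = _
    rw [← Category.assoc, ← S.map_comp, biprod.inl_snd, S.map_zero, zero_comp]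

lemma inr_ψf (k : ℕ) (K : CochainComplex A ℕ) :
    S.map biprod.inr ≫ ψf sp (k + 1) K = 0 := by
  show S.map biprod.inr ≫ S.map biprod.fst ≫ _ = _
  rw [← Category.assoc, ← S.map_comp, biprod.inr_fst, S.map_zero, zero_comp]

lemma inl_ψf (k : ℕ) (K : CochainComplex A ℕ) :
    S.map biprod.inl ≫ ψf sp (k + 1) K = sp.ρ (K.X (k + 1)) := by
  show S.map biprod.inl ≫ S.map biprod.fst ≫ _ = _
  rw [← Category.assoc, ← S.map_comp, biprod.inl_fst, S.map_id, Category.id_comp]

lemma inr_hf_zero (K : CochainComplex A ℕ) :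
    S.map biprod.inr ≫ hf sp 0 K = ψf sp 0 (s.QC K) ≫ sp.j (K.X 0) := by
  show S.map biprod.inr ≫ S.map biprod.snd ≫ _ = _
  rw [← Category.assoc, ← S.map_comp, biprod.inr_snd, S.map_id, Category.id_comp]

lemma inr_hf_succ (k : ℕ) (K : CochainComplex A ℕ) :
    S.map biprod.inr ≫ hf sp (k + 1) K =
      ψf sp (k + 1) (s.QC K) ≫ sp.j (K.X (k + 1)) ≫ S.map biprod.inl -
        hf sp k (s.QC K) ≫ S.map biprod.inr := by
  show S.map biprod.inr ≫ S.map biprod.snd ≫ _ = _
  rw [← Category.assoc, ← S.map_comp, biprod.inr_snd, S.map_id, Category.id_comp]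

lemma D_hf_inl (k : ℕ) (K : CochainComplex A ℕ) :
    S.map (biprod.inl ≫ D s (k + 1) K) ≫ hf sp (k + 1) K =
      S.map (s.π.app (K.X (k + 1))) ≫ sp.j (K.X (k + 1)) ≫ S.map biprod.inl := by
  rw [D_succ, biprod.inl_desc]
  show S.map _ ≫ S.map biprod.snd ≫ _ = _
  rw [← Category.assoc, ← S.map_comp, biprod.lift_snd, S.map_comp, Category.assoc,
    Preadditive.comp_sub, ← Category.assoc (S.map (φf s (k + 1) _)), φf_ψf, Category.id_comp,
    ← Category.assoc (S.map (φf s (k + 1) _)), φf_hf, zero_comp, sub_zero]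

lemma homotopy_succ : ∀ (k : ℕ) (K : CochainComplex A ℕ),
    𝟙 (S.obj (T s (k + 1) K)) = S.map (D s (k + 1) K) ≫ hf sp (k + 1) K +
      hf sp k K ≫ S.map (D s k K) + ψf sp (k + 1) K ≫ S.map (φf s (k + 1) K)
  | k, K => by
    apply map_hom_ext'
    · rw [Category.comp_id, Preadditive.comp_add, Preadditive.comp_add, ← Category.assoc,
        ← S.map_comp, D_hf_inl, ← Category.assoc _ (hf sp k K), inl_hf_succ, zero_comp, add_zero,
        ← Category.assoc _ (ψf sp (k + 1) K), inl_ψf,
        show φf s (k + 1) K = s.η.app _ ≫ biprod.inl from rfl, S.map_comp, ← Category.assoc,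
        ← Category.assoc, sp.π_j, Preadditive.sub_comp, Category.id_comp]
      exact (sub_add_cancel _ _).symm
    · rw [Category.comp_id, Preadditive.comp_add, Preadditive.comp_add, ← Category.assoc,
        ← S.map_comp, inr_D, ← Category.assoc _ (ψf sp (k + 1) K), inr_ψf, zero_comp, add_zero,
        S.map_neg, S.map_comp, Preadditive.neg_comp, Category.assoc, inr_hf_succ, ← Category.assoc _ (hf sp k K)]
      match k with
      | 0 =>
        rw [inr_hf_zero, D_zero s K]
        have e1 := homotopy_zero sp (s.QC K)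
        have e2 : biprod.lift (s.G.map (K.d 0 1)) (s.π.app (K.X 0) ≫ φf s 0 (s.QC K)) =
            s.G.map (K.d 0 1) ≫ biprod.inl + (s.π.app (K.X 0) ≫ φf s 0 (s.QC K)) ≫ biprod.inr := by
          apply biprod.hom_ext <;> simp
        have e3 : ψf sp 0 (s.QC K) ≫ S.map ((s.QC K).d 0 1) =
            S.map (D s 0 (s.QC K)) ≫ ψf sp 1 (s.QC K) := ψf_D sp 0 (s.QC K)
        have e4 : sp.j (K.X 0) ≫ S.map (s.π.app (K.X 0)) = 𝟙 _ := sp.j_π _
        conv_lhs => rw [← Category.id_comp (S.map biprod.inr), e1]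
        rw [e2, S.map_add, S.map_comp, S.map_comp, S.map_comp, Preadditive.comp_add,
          Category.assoc, Category.assoc, ← Category.assoc (sp.j _), ← j_nat, Category.assoc,
          ← Category.assoc (ψf sp 0 _), show s.Q.map (K.d 0 1) = (s.QC K).d 0 1 from rfl, e3,
          Category.assoc, Category.assoc, ← Category.assoc (sp.j _) (S.map (s.π.app _)), e4,
          Category.id_comp, Preadditive.comp_sub, Preadditive.add_comp,
          Category.assoc, Category.assoc]
        abel
      | k + 1 =>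
        rw [inr_hf_succ, Preadditive.sub_comp, Category.assoc, Category.assoc, Category.assoc,
          ← S.map_comp biprod.inr, inr_D, ← S.map_comp biprod.inl, D_succ s k K, biprod.inl_desc]
        have e1 := homotopy_succ k (s.QC K)
        have e2 : biprod.lift (s.G.map (K.d (k + 1) (k + 1 + 1)))
            (s.π.app (K.X (k + 1)) ≫ φf s (k + 1) (s.QC K)) =
            s.G.map (K.d (k + 1) (k + 1 + 1)) ≫ biprod.inl +
              (s.π.app (K.X (k + 1)) ≫ φf s (k + 1) (s.QC K)) ≫ biprod.inr := by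
          apply biprod.hom_ext <;> simp
        have e3 : ψf sp (k + 1) (s.QC K) ≫ S.map ((s.QC K).d (k + 1) (k + 1 + 1)) =
            S.map (D s (k + 1) (s.QC K)) ≫ ψf sp (k + 1 + 1) (s.QC K) := ψf_D sp _ _
        have e4 : sp.j (K.X (k + 1)) ≫ S.map (s.π.app (K.X (k + 1))) = 𝟙 _ := sp.j_π _
        conv_lhs => rw [← Category.id_comp (S.map biprod.inr), e1]
        rw [S.map_neg, e2, S.map_add, S.map_comp, S.map_comp, S.map_comp, S.map_comp,
          Preadditive.comp_add, Preadditive.comp_add, Category.assoc,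
          ← Category.assoc (sp.j _), ← j_nat, Category.assoc,
          ← Category.assoc (ψf sp (k + 1) _),
          show s.Q.map (K.d (k + 1) (k + 1 + 1)) = (s.QC K).d (k + 1) (k + 1 + 1) from rfl, e3,
          ← Category.assoc (sp.j _) (S.map (s.π.app _)), e4,
          Category.id_comp, Preadditive.comp_sub,
          Preadditive.add_comp, Preadditive.add_comp, Category.assoc, Category.assoc, Category.assoc,
          Preadditive.comp_neg, sub_neg_eq_add]
        simp only [Category.assoc]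
        abel

/-- The retraction of complexes. -/
def retr (K : CochainComplex A ℕ) :
    (S.mapHomologicalComplex _).obj (tot s K) ⟶ (S.mapHomologicalComplex _).obj K where
  f k := ψf sp k K
  comm' i j (h : i + 1 = j) := by
    subst h
    show ψf sp i K ≫ S.map (K.d i (i + 1)) = S.map ((tot s K).d i (i + 1)) ≫ ψf sp (i + 1) K
    rw [tot_d]
    exact ψf_D sp i K

/-- The homotopy data. -/
def hom (K : CochainComplex A ℕ) (i j : ℕ) :
    ((S.mapHomologicalComplex (ComplexShape.up ℕ)).obj (tot s K)).X i ⟶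
      ((S.mapHomologicalComplex (ComplexShape.up ℕ)).obj (tot s K)).X j :=
  if h : j + 1 = i then eqToHom (congrArg (fun n => S.obj (T s n K)) h.symm) ≫ hf sp j K else 0

lemma hom_succ (K : CochainComplex A ℕ) (j : ℕ) : hom sp K (j + 1) j = hf sp j K := by
  rw [hom, dif_pos rfl, eqToHom_refl]
  exact Category.id_comp _

/-- The homotopy equivalence after applying `S`. -/
def totEquiv (K : CochainComplex A ℕ) :
    HomotopyEquiv ((S.mapHomologicalComplex _).obj K) ((S.mapHomologicalComplex _).obj (tot s K)) where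
  hom := (S.mapHomologicalComplex _).map (toTot s K)
  inv := retr sp K
  homotopyHomInvId := Homotopy.ofEq (HomologicalComplex.hom_ext _ _ fun k => φf_ψf sp k K)
  homotopyInvHomId := Homotopy.symm
    { hom := hom sp K
      zero := fun i j h => dif_neg fun e => h e
      comm := fun i => by
        match i with
        | 0 =>
          rw [dNext_eq (hom sp K) (rfl : (ComplexShape.up ℕ).Rel 0 1), hom_succ, prevD_eq_zero _ 0 (by simp),
            add_zero]
          refine (homotopy_zero sp K).trans ?_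
          rw [← tot_d]
          rfl
        | k + 1 =>
          rw [dNext_eq (hom sp K) (rfl : (ComplexShape.up ℕ).Rel (k + 1) (k + 1 + 1)), hom_succ,
            prevD_eq (hom sp K) (rfl : (ComplexShape.up ℕ).Rel k (k + 1)), hom_succ]
          refine (homotopy_succ sp k K).trans ?_
          rw [← tot_d, ← tot_d]
          rfl }

end Split

end Groth.Agent.StalkRes
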